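/-
Contribution numbers `[χ̂, ξ]` of a block (`χ̂` the p-regular part), namespace `Cfsg.Agent.RegPart`.

* `pow_dvd_and_memI_iff`, `padic_iff`: exact p-parts of integers through the local ring
* `exists_int`, `exists_int_defect`: integrality of `p^a [χ̂, ξ]` and `p^d [χ̂, ξ]`
* `regPart_eq_sum`: the block expansion of `χ̂`
-/
import Cfsg.Agent.Lib.Blocks.HeightZero
import Cfsg.Agent.Lib.BlockDefect.RegInner
import Cfsg.Agent.Lib.Char.PRegular

set_option autoImplicit false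

namespace Cfsg.Agent.RegPart

open Cfsg Blocks
open scoped ComplexConjugate

variable {p : ℕ} {M : Ideal AlgInt}

theorem dvd_intCast_of_memR_div (hM : IsPModular p M) {n : ℤ} {e : ℕ}
    (h : MemLocalRing M ((n : ℂ) / (p : ℂ) ^ e)) : (p : ℤ) ^ e ∣ n := by
  obtain ⟨m, rfl | rfl⟩ := Int.eq_nat_or_neg n
  · exact_mod_cast dvd_of_memR_div hM (m := m) (by simpa using h)
  · rw [dvd_neg]
    exact_mod_cast dvd_of_memR_div hM (m := m) (by simpa [neg_div] using memR_neg h)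

theorem memI_intCast_iff (hM : IsPModular p M) {n : ℤ} :
    MemLocalIdeal M (n : ℂ) ↔ (p : ℤ) ∣ n := by
  refine ⟨fun h => ?_, memI_intCast hM⟩
  obtain ⟨m, rfl | rfl⟩ := Int.eq_nat_or_neg n
  · exact_mod_cast (memI_natCast hM (n := m)).1 (by simpa using h)
  · rw [dvd_neg]
    exact_mod_cast (memI_natCast hM (n := m)).1 (by simpa using memI_neg h)

/-- An integer `D / m * w` with `w` local: its exact p-part is that of `D` iff `w` is a unit. -/
theorem pow_dvd_and_memI_iff (hM : IsPModular p M) {n : ℤ} {D m : ℕ} (hD : D ≠ 0) (hm : ¬ p ∣ m)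
    {w : ℂ} (hw : MemLocalRing M w) (h : (n : ℂ) = (D : ℂ) / (m : ℂ) * w) :
    (p : ℤ) ^ D.factorization p ∣ n ∧
      (MemLocalIdeal M w ↔ (p : ℤ) ^ (D.factorization p + 1) ∣ n) := by
  set e := D.factorization p
  obtain ⟨r, hr, hDr⟩ : ∃ r, ¬ p ∣ r ∧ D = p ^ e * r :=
    ⟨_, Nat.not_dvd_ordCompl hM.1 hD, (Nat.ordProj_mul_ordCompl_eq_self _ p).symm⟩
  have hp0 : (p : ℂ) ≠ 0 := Nat.cast_ne_zero.mpr hM.1.ne_zero
  have hpe : (p : ℂ) ^ e ≠ 0 := pow_ne_zero _ hp0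
  have hu : MemLocalRing M ((r : ℂ) * (m : ℂ)⁻¹) :=
    memR_mul hM (memR_natCast hM r) (memR_natCast_inv hM hm)
  have hu' : MemLocalRing M ((m : ℂ) * (r : ℂ)⁻¹) :=
    memR_mul hM (memR_natCast hM m) (memR_natCast_inv hM hr)
  have hm0 : (m : ℂ) ≠ 0 := Nat.cast_ne_zero.mpr fun h0 => hm (h0 ▸ dvd_zero p)
  have hr0 : (r : ℂ) ≠ 0 := Nat.cast_ne_zero.mpr fun h0 => hr (h0 ▸ dvd_zero p)
  have hdiv : (n : ℂ) / (p : ℂ) ^ e = (r : ℂ) * (m : ℂ)⁻¹ * w := by
    rw [h, hDr]; push_cast; field_simp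
  obtain ⟨n', rfl⟩ := dvd_intCast_of_memR_div hM (hdiv ▸ memR_mul hM hu hw)
  refine ⟨dvd_mul_right _ _, ?_⟩
  have hn' : (n' : ℂ) = (r : ℂ) * (m : ℂ)⁻¹ * w := by
    rw [← hdiv]; push_cast; field_simp
  rw [pow_succ, mul_dvd_mul_iff_left (pow_ne_zero _ (by exact_mod_cast hM.1.ne_zero)),
    ← memI_intCast_iff hM, hn']
  refine ⟨fun hI => memI_mul_left hM hu hI, fun hI => ?_⟩
  have h' := memI_mul_left hM hu' hI
  rwa [show (m : ℂ) * (r : ℂ)⁻¹ * ((r : ℂ) * (m : ℂ)⁻¹ * w) = w by field_simp] at h'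

theorem padic_iff (hp : p.Prime) {n : ℤ} {e : ℕ} (h : (p : ℤ) ^ e ∣ n) :
    (n ≠ 0 ∧ padicValInt p n = e) ↔ ¬ (p : ℤ) ^ (e + 1) ∣ n := by
  have := Fact.mk hp
  rw [padicValInt_dvd_iff] at h ⊢
  constructor
  · rintro ⟨h0, h1⟩ (h2 | h2)
    · exact h0 h2
    · omega
  · intro h1
    push Not at h1
    exact ⟨h1.1, by rcases h with h | h; exacts [absurd h h1.1, by omega]⟩

variable {G : Type*} [Group G]

theorem ite_eq_pRegularPart (p : ℕ) (c : ℂ) (χ : G → ℂ) :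
    (fun x : G => if p ∣ orderOf x then (0 : ℂ) else c * χ x) = c • pRegularPart p χ := by
  funext x
  by_cases h : p ∣ orderOf x <;> simp [pRegularPart, IsPRegular, h]

theorem regConj_apply (p : ℕ) (χ : IrrCharacter G) [Finite G] (x : G) :
    regConj p (χ : G → ℂ) x = pRegularPart p (χ : G → ℂ) x⁻¹ := by
  simp only [regConj, pRegularPart, IsPRegular, orderOf_inv]
  by_cases h : p ∣ orderOf x <;>
    simp [h, Char.IsCharacter.apply_inv (Char.IsIrrCharacter.isCharacter χ.2)]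

variable [Fintype G]

theorem comm (p : ℕ) (χ ξ : IrrCharacter G) :
    classInner (pRegularPart p (χ : G → ℂ)) (ξ : G → ℂ) =
      classInner (pRegularPart p (ξ : G → ℂ)) (χ : G → ℂ) := by
  unfold classInner
  congr 1
  refine Fintype.sum_equiv (Equiv.inv G) _ _ fun x => ?_
  simp only [pRegularPart, IsPRegular, Equiv.inv_apply, orderOf_inv]
  by_cases h : p ∣ orderOf x <;>
    simp [h, Char.IsCharacter.apply_inv (Char.IsIrrCharacter.isCharacter χ.2),
      Char.IsCharacter.apply_inv (Char.IsIrrCharacter.isCharacter ξ.2), mul_comm]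

/-- `p^a [χ̂, ξ]` is an integer. -/
theorem exists_int (hp : p.Prime) (χ ξ : IrrCharacter G) :
    ∃ n : ℤ, ((p ^ (Nat.card G).factorization p : ℕ) : ℂ) *
      classInner (pRegularPart p (χ : G → ℂ)) (ξ : G → ℂ) = n := by
  obtain ⟨N, hN⟩ := Char.IsCharacter.exists_degree (Char.IsIrrCharacter.isCharacter χ.2)
  obtain ⟨z, hz⟩ := Char.IsGeneralizedCharacter.classInner_int
    (Char.isGeneralizedCharacter_regularPart hp χ.2 hN)
    (Char.isGeneralizedCharacter_of_isCharacter (Char.IsIrrCharacter.isCharacter ξ.2))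
  rw [ite_eq_pRegularPart, Char.classInner_smul_left] at hz
  obtain ⟨c, hc⟩ := pow_dvd_pow p
    (Nat.sub_le ((Nat.card G).factorization p) (N.factorization p))
  exact ⟨c * z, by rw [hc]; push_cast at hz ⊢; linear_combination (c : ℂ) * hz⟩

/-- `p^a [χ̂, ξ] = ξ(1)/m * ω_ξ(regConj χ)`. -/
theorem pow_mul_eq (χ ξ : IrrCharacter G) :
    ((p ^ (Nat.card G).factorization p : ℕ) : ℂ) *
      classInner (pRegularPart p (χ : G → ℂ)) (ξ : G → ℂ) =
      (charDegree (ξ : G → ℂ) : ℂ) /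
        ((Nat.card G / p ^ (Nat.card G).factorization p : ℕ) : ℂ) *
        omega (ξ : G → ℂ) (regConj p (χ : G → ℂ)) := by
  rw [comm, omega_regConj_eq, charDegree_cast]
  have h1 := irr_one_ne_zero ξ
  have hG : (Nat.card G : ℂ) = ((p ^ (Nat.card G).factorization p : ℕ) : ℂ) *
      ((Nat.card G / p ^ (Nat.card G).factorization p : ℕ) : ℂ) := by
    rw [← Nat.cast_mul, Nat.ordProj_mul_ordCompl_eq_self]
  have hm0 : ((Nat.card G / p ^ (Nat.card G).factorization p : ℕ) : ℂ) ≠ 0 :=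
    Nat.cast_ne_zero.2 (Nat.ordCompl_pos p Nat.card_pos.ne').ne'
  rw [hG]
  field_simp

/-- Exact p-part of a contribution number. -/
theorem int_spec (hM : IsPModular p M) (χ ξ : IrrCharacter G) {n : ℤ}
    (hn : ((p ^ (Nat.card G).factorization p : ℕ) : ℂ) *
      classInner (pRegularPart p (χ : G → ℂ)) (ξ : G → ℂ) = n) :
    (p : ℤ) ^ (charDegree (ξ : G → ℂ)).factorization p ∣ n ∧
      (MemLocalIdeal M (omega (ξ : G → ℂ) (regConj p (χ : G → ℂ))) ↔
        (p : ℤ) ^ ((charDegree (ξ : G → ℂ)).factorization p + 1) ∣ n) :=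
  pow_dvd_and_memI_iff hM (charDegree_pos ξ).ne' (Nat.not_dvd_ordCompl hM.1 Nat.card_pos.ne')
    (memR_omega hM (isClassFunction_regConj (irr_class χ)) (memR_regConj hM χ) ξ)
    (hn.symm.trans (pow_mul_eq χ ξ))

/-- `p^d [χ̂, ξ]` is an integer, `d` the defect of the block of `ξ`. -/
theorem exists_int_defect (hM : IsPModular p M) {B : Set (IrrCharacter G)} (hB : IsPBlock M B)
    (χ : IrrCharacter G) {ξ : IrrCharacter G} (hξ : ξ ∈ B) :
    ∃ n : ℤ, (p : ℂ) ^ blockDefect p B *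
      classInner (pRegularPart p (χ : G → ℂ)) (ξ : G → ℂ) = n := by
  obtain ⟨e, h, φ, -, he, hd, -, -, hall⟩ := BlockDefect.exists_degrees hM hB
  obtain ⟨n, hn⟩ := exists_int hM.1 χ ξ
  have h1 : p ^ e ∣ p ^ (charDegree (ξ : G → ℂ)).factorization p :=
    pow_dvd_pow p ((hM.1.pow_dvd_iff_le_factorization (charDegree_pos ξ).ne').1 (hall ξ hξ))
  obtain ⟨c, rfl⟩ : ((p : ℤ) ^ e) ∣ n :=
    dvd_trans (by exact_mod_cast h1) (int_spec hM χ ξ hn).1
  refine ⟨c, ?_⟩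
  refine mul_left_cancel₀ (pow_ne_zero e (Nat.cast_ne_zero.2 hM.1.ne_zero) : (p : ℂ) ^ e ≠ 0) ?_
  rw [← mul_assoc, ← pow_add, hd, Nat.add_sub_cancel' he]
  push_cast at hn
  exact hn

/-- The p-regular part of a member of a block expands inside the block. -/
theorem regPart_eq_sum [Fintype (IrrCharacter G)] (hM : IsPModular p M) {B : Set (IrrCharacter G)}
    (hB : IsPBlock M B) {χ : IrrCharacter G} (hχ : χ ∈ B) (g : G) :
    pRegularPart p (χ : G → ℂ) g =
      ∑ᶠ ψ ∈ B, classInner (pRegularPart p (χ : G → ℂ)) (ψ : G → ℂ) * (ψ : G → ℂ) g := by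
  classical
  rw [finsum_mem_def, finsum_eq_sum_of_fintype]
  conv_lhs => rw [Char.classFunction_eq_sum
    (BrauerPairs.isClassFunction_pRegularPart (p := p) (irr_class χ))]
  rw [Finset.sum_apply]
  refine Finset.sum_congr rfl fun ψ _ => ?_
  by_cases hψ : ψ ∈ B
  · simp [Set.indicator_of_mem hψ]
  · simp [Set.indicator_of_notMem hψ, BrauerPairs.classInner_pRegularPart_eq_zero hM hB hχ hψ]

/-- The block expansion of the scaled p-regular part has integer coefficients. -/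
theorem exists_expansion (hM : IsPModular p M) {B : Set (IrrCharacter G)} (hB : IsPBlock M B)
    (n : IrrCharacter G → ℤ) :
    ∃ k : IrrCharacter G → ℤ, (∀ ψ, ψ ∉ B → k ψ = 0) ∧ ∀ g : G, (p : ℂ) ^ blockDefect p B *
      pRegularPart p (fun x => ∑ᶠ χ ∈ B, (n χ : ℂ) * (χ : G → ℂ) x) g =
      ∑ᶠ ψ ∈ B, (k ψ : ℂ) * (ψ : G → ℂ) g := by
  classical
  have := Fintype.ofFinite (IrrCharacter G)
  choose c hc using fun (χ : IrrCharacter G) (ψ : B) => exists_int_defect hM hB χ ψ.2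
  refine ⟨fun ψ => if hψ : ψ ∈ B then ∑ χ ∈ Finset.univ.filter (· ∈ B), n χ * c χ ⟨ψ, hψ⟩ else 0,
    fun ψ hψ => dif_neg hψ, fun g => ?_⟩
  have hfin : ∀ f : IrrCharacter G → ℂ, ∑ᶠ χ ∈ B, f χ = ∑ χ ∈ Finset.univ.filter (· ∈ B), f χ := by
    intro f
    rw [finsum_mem_eq_sum_of_inter_support_eq]
    ext; simp
  have hlin : pRegularPart p (fun x => ∑ᶠ χ ∈ B, (n χ : ℂ) * (χ : G → ℂ) x) g =
      ∑ χ ∈ Finset.univ.filter (· ∈ B), (n χ : ℂ) * pRegularPart p (χ : G → ℂ) g := by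
    by_cases h : p ∣ orderOf g <;> simp [pRegularPart, IsPRegular, h, hfin]
  rw [hlin, hfin, Finset.mul_sum, Finset.sum_congr rfl fun χ hχ => by
    rw [regPart_eq_sum hM hB (Finset.mem_filter.1 hχ).2 g, hfin, Finset.mul_sum, Finset.mul_sum]]
  rw [Finset.sum_comm]
  refine Finset.sum_congr rfl fun ψ hψ => ?_
  simp only [dif_pos (Finset.mem_filter.1 hψ).2]
  push_cast
  rw [Finset.sum_mul]
  refine Finset.sum_congr rfl fun χ _ => ?_
  rw [← hc χ ⟨ψ, (Finset.mem_filter.1 hψ).2⟩]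
  ring

end Cfsg.Agent.RegPart
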