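/-
The integral contribution matrix `c χ ψ = p^d [χ̂, ψ]` of a block, namespace `Cfsg.Agent.RegPart`.

* `exists_contribution`: symmetric, `∑ ψ, (c χ ψ)² = p^d c χ χ`, exact p-parts by heights
-/
import Cfsg.Agent.Lib.RegPart.Basic

set_option autoImplicit false

namespace Cfsg.Agent.RegPart

open Cfsg Blocks
open scoped ComplexConjugate

variable {p : ℕ} {M : Ideal AlgInt} {G : Type*} [Group G] [Fintype G]

theorem classInner_self_reg (p : ℕ) (χ : G → ℂ) :
    classInner (pRegularPart p χ) χ = classInner (pRegularPart p χ) (pRegularPart p χ) := by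
  unfold classInner
  congr 1
  refine Finset.sum_congr rfl fun x _ => ?_
  by_cases h : IsPRegular p x <;> simp [pRegularPart, h]

/-- Contributions at `1`: the matrix `p^d [χ̂, ψ]` of a block. -/
theorem exists_contribution (hM : IsPModular p M) {B : Set (IrrCharacter G)} (hB : IsPBlock M B)
    [Fintype B] :
    ∃ c : B → B → ℤ,
      (∀ χ ψ : B, (p : ℂ) ^ blockDefect p B *
        classInner (pRegularPart p ((χ : IrrCharacter G) : G → ℂ)) ((ψ : IrrCharacter G) : G → ℂ) =
          c χ ψ) ∧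
      (∀ χ ψ, c χ ψ = c ψ χ) ∧
      (∀ χ, ∑ ψ, c χ ψ ^ 2 = (p : ℤ) ^ blockDefect p B * c χ χ) ∧
      ∀ χ ψ : B, (p : ℤ) ^ blockHeight p B ((ψ : IrrCharacter G) : G → ℂ) ∣ c χ ψ ∧
        ((p : ℤ) ^ (blockHeight p B ((ψ : IrrCharacter G) : G → ℂ) + 1) ∣ c χ ψ ↔
          0 < blockHeight p B ((χ : IrrCharacter G) : G → ℂ)) := by
  classical
  have := Fintype.ofFinite (IrrCharacter G)
  choose c hc using fun (χ ψ : B) => exists_int_defect hM hB (χ : IrrCharacter G) ψ.2
  have hp0 : (p : ℂ) ^ blockDefect p B ≠ 0 := pow_ne_zero _ (Nat.cast_ne_zero.2 hM.1.ne_zero)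
  have hreal : ∀ χ ψ : B,
      conj (classInner (pRegularPart p ((χ : IrrCharacter G) : G → ℂ)) ((ψ : IrrCharacter G) : G → ℂ)) =
      classInner (pRegularPart p ((χ : IrrCharacter G) : G → ℂ)) ((ψ : IrrCharacter G) : G → ℂ) := by
    intro χ ψ
    have h := congrArg conj (hc χ ψ)
    rw [map_mul, map_pow, map_natCast, map_intCast, ← hc χ ψ] at h
    exact mul_left_cancel₀ hp0 h
  refine ⟨c, hc, fun χ ψ => ?_, fun χ => ?_, fun χ ψ => ?_⟩
  · have h : (c χ ψ : ℂ) = c ψ χ := by rw [← hc, ← hc, comm]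
    exact_mod_cast h
  · have hpar : classInner (pRegularPart p ((χ : IrrCharacter G) : G → ℂ))
        ((χ : IrrCharacter G) : G → ℂ) = ∑ ψ : B,
        classInner (pRegularPart p ((χ : IrrCharacter G) : G → ℂ))
          ((ψ : IrrCharacter G) : G → ℂ) ^ 2 := by
      rw [classInner_self_reg, Char.classInner_eq_sum
        (BrauerPairs.isClassFunction_pRegularPart (irr_class (χ : IrrCharacter G))),
        ← Finset.sum_subset (Finset.subset_univ (Finset.univ.filter (· ∈ B))) fun ψ _ hψ => by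
          rw [BrauerPairs.classInner_pRegularPart_eq_zero hM hB χ.2 (by simpa using hψ), zero_mul],
        Finset.sum_subtype (Finset.univ.filter (· ∈ B)) (p := (· ∈ B)) (fun ψ => by simp)]
      exact Finset.sum_congr rfl fun ψ _ => by rw [hreal, sq]
    have h : ((∑ ψ, c χ ψ ^ 2 : ℤ) : ℂ) = (((p : ℤ) ^ blockDefect p B * c χ χ : ℤ) : ℂ) := by
      push_cast
      simp only [← hc, mul_pow, ← Finset.mul_sum, ← hpar]
      ring
    exact_mod_cast h
  · set e := sInf ((fun χ : IrrCharacter G => (charDegree (χ : G → ℂ)).factorization p) '' B) with he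
    have hle : e ≤ (charDegree ((ψ : IrrCharacter G) : G → ℂ)).factorization p :=
      Nat.sInf_le ⟨_, ψ.2, rfl⟩
    have hea : e ≤ (Nat.card G).factorization p :=
      hle.trans ((Nat.factorization_le_iff_dvd (charDegree_pos _).ne' Nat.card_pos.ne').2
        (charDegree_dvd_card _) p)
    obtain ⟨n, hn⟩ := exists_int hM.1 (χ : IrrCharacter G) (ψ : IrrCharacter G)
    obtain ⟨h1, h2⟩ := int_spec hM (χ : IrrCharacter G) (ψ : IrrCharacter G) hn
    have hnc : n = (p : ℤ) ^ e * c χ ψ := by
      have h : (n : ℂ) = (((p : ℤ) ^ e * c χ ψ : ℤ) : ℂ) := by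
        rw [← hn, Int.cast_mul, ← hc, Int.cast_pow, Int.cast_natCast, ← mul_assoc, ← pow_add,
          Nat.cast_pow, blockDefect, ← he, Nat.add_sub_cancel' hea]
      exact_mod_cast h
    have hiff : 0 < blockHeight p B ((χ : IrrCharacter G) : G → ℂ) ↔
        MemLocalIdeal M (omega ((ψ : IrrCharacter G) : G → ℂ)
          (regConj p ((χ : IrrCharacter G) : G → ℂ))) := by
      constructor
      · intro hpos
        by_contra hu
        obtain ⟨η, hη, hη0⟩ := exists_blockHeight_eq_zero p (isPBlock_nonempty hM hB)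
        obtain ⟨m, hm⟩ := exists_int hM.1 (χ : IrrCharacter G) η
        have hu' : ¬ MemLocalIdeal M (omega (η : G → ℂ) (regConj p ((χ : IrrCharacter G) : G → ℂ))) :=
          fun hI => hu ((memI_iff_of_sub hM (intRing_congr hM
            (omega_mem_intRing hM (isClassFunction_regConj (irr_class (χ : IrrCharacter G)))
              (memR_regConj hM (χ : IrrCharacter G)))
            (sameBlock_of_mem hM hB ψ.2 hη))).2 hI)
        have hd := (int_spec hM η (χ : IrrCharacter G) (by rw [comm]; exact hm)).1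
        refine hu' ((int_spec hM _ η hm).2.2 ((pow_dvd_pow _ ?_).trans hd))
        exact Nat.lt_of_le_of_lt (Nat.sub_eq_zero_iff_le.1 hη0) (Nat.sub_pos_iff_lt.1 hpos)
      · intro hI
        exact Nat.pos_of_ne_zero fun h0 => not_memI_omega_regConj hM hB χ.2 h0 ψ.2 hI
    have hht : (charDegree ((ψ : IrrCharacter G) : G → ℂ)).factorization p =
        e + blockHeight p B ((ψ : IrrCharacter G) : G → ℂ) := by
      rw [blockHeight, ← he, Nat.add_sub_cancel' hle]
    have hpz : (p : ℤ) ^ e ≠ 0 := pow_ne_zero _ (by exact_mod_cast hM.1.ne_zero)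
    rw [hnc, hht] at h1 h2
    rw [pow_add, mul_dvd_mul_iff_left hpz] at h1
    rw [add_assoc, pow_add, mul_dvd_mul_iff_left hpz] at h2
    exact ⟨h1, (hiff.trans h2).symm⟩

end Cfsg.Agent.RegPart
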